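import Groth.Agent.L10.BigColim.Sections
import Groth.Agent.L27.Colim.Etale
import Mathlib.CategoryTheory.Limits.Constructions.Filtered
import Mathlib.CategoryTheory.Limits.Preserves.Shapes.Products
import Mathlib.CategoryTheory.Sites.LocallySurjective
import Mathlib.CategoryTheory.Adjunction.Limits

/-! # Direct images along qcqs morphisms commute with large coproducts -/

universe u

open CategoryTheory CategoryTheory.Limits AlgebraicGeometry Opposite CoproductsFromFiniteFiltered

set_option backward.defeqAttrib.useBackward true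
set_option backward.isDefEq.respectTransparency false
set_option backward.isDefEq.respectTransparency.types false
set_option linter.style.haveILetI false

namespace Groth.L10.EtCoprod

open Groth.L27 Groth.L27.Colim

variable {X S : Scheme.{u}} (f : X ⟶ S) [QuasiCompact f] [QuasiSeparated f]

theorem exists_qcqs_nhd (U : S.Etale) (x : U.left) :
    ∃ (V : S.Etale) (g : V ⟶ U) (v : V.left), g.left.base v = x ∧ Qcqs ((EtCoh.bc f).obj V) := by
  obtain ⟨_, ⟨O', hO, rfl⟩, hx, -⟩ := U.left.isBasis_affineOpens.exists_subset_of_mem_open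
    (Set.mem_univ x) isOpen_univ
  let O : U.left.Opens := O'
  replace hO : IsAffineOpen O := hO
  haveI : AlgebraicGeometry.Etale U.hom := U.prop
  refine ⟨Scheme.Etale.mk (O.ι ≫ U.hom), MorphismProperty.Over.homMk O.ι rfl, ⟨x, hx⟩, rfl, ?_⟩
  haveI : IsAffine O.toScheme := hO
  exact ⟨@QuasiCompact.compactSpace_of_compactSpace _ _ (pullback.fst (O.ι ≫ U.hom) f)
    (MorphismProperty.pullback_fst (P := @QuasiCompact) (O.ι ≫ U.hom) f ‹_›) (inferInstanceAs (CompactSpace O.toScheme)),
    @quasiSeparatedSpace_of_quasiSeparated _ _ (pullback.fst (O.ι ≫ U.hom) f)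
      (inferInstanceAs (QuasiSeparatedSpace O.toScheme))
      (MorphismProperty.pullback_fst (P := @QuasiSeparated) (O.ι ≫ U.hom) f ‹_›)⟩

variable {Λ : Type (u + 1)} [SmallCategory Λ] [IsFiltered Λ]

theorem preservesColimitsOfShape_push : PreservesColimitsOfShape Λ (EtCoh.push f) where
  preservesColimit {D} := ⟨fun {c} hc => by
    let φ : colimit (D ⋙ EtCoh.push f) ⟶ (EtCoh.push f).obj c.pt := colimit.desc _ ((EtCoh.push f).mapCocone c)
    have hφ : ∀ (j : Λ) (V : S.Etale) (y : (D.obj j).obj.obj (op ((EtCoh.bc f).obj V))),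
        φ.hom.app (op V) ((colimit.ι (D ⋙ EtCoh.push f) j).hom.app (op V) y) =
          (c.ι.app j).hom.app (op ((EtCoh.bc f).obj V)) y := fun j V y =>
      congr($(colimit.ι_desc ((EtCoh.push f).mapCocone c) j).hom.app (op V) y)
    haveI : Mono φ := by
      haveI : ∀ U, Mono (φ.hom.app U) := fun U => (AddCommGrpCat.mono_iff_injective _).2
        ((injective_iff_map_eq_zero _).2 fun z hz => EtSite.ext_of_locally _ fun x => by
          obtain ⟨R, hR, hR'⟩ := (BigColim.locally_rep (colimit.isColimit (D ⋙ EtCoh.push f)) U.unop).1 z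
          obtain ⟨V₁, g₁, v₁, hg₁, hv₁⟩ := (EtSite.mem_topology_iff R).1 hR x
          obtain ⟨V, g, v, hv, hq⟩ := exists_qcqs_nhd f V₁ v₁
          refine ⟨V, g ≫ g₁, v, (Scheme.Hom.comp_apply _ _ _).trans ((congrArg g₁.left hv).trans hv₁), ?_⟩
          obtain ⟨j, y, hy⟩ := hR' _ _ (R.downward_closed hg₁ g)
          have h0 : (c.ι.app j).hom.app (op ((EtCoh.bc f).obj V)) y = 0 := by
            rw [← hφ j V y]
            refine (congrArg (φ.hom.app (op V)) hy).trans ?_
            exact (NatTrans.naturality_apply φ.hom (g ≫ g₁).op z).trans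
              ((congrArg _ hz).trans (map_zero _))
          obtain ⟨k, h, hk⟩ := BigColim.exists_map_eq_zero good hc hq j y h0
          refine hy.symm.trans (Eq.trans ?_ (map_zero _).symm)
          rw [← BigColim.ι_map (D := D ⋙ EtCoh.push f) (c := colimit.cocone _) h y]
          exact (congrArg ((colimit.ι (D ⋙ EtCoh.push f) k).hom.app (op V)) hk).trans (map_zero _))
      haveI : Mono φ.hom := NatTrans.mono_of_mono_app _
      exact (sheafToPresheaf _ _).mono_of_mono_map (inferInstanceAs (Mono φ.hom))
    haveI : Sheaf.IsLocallySurjective φ := ⟨fun {U} s => (EtSite.mem_topology_iff _).2 fun x => by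
      obtain ⟨V, g, v, hv, hq⟩ := exists_qcqs_nhd f U x
      obtain ⟨j, y, hy⟩ := BigColim.exists_rep good hc hq (((EtCoh.push f).obj c.pt).obj.map g.op s)
      exact ⟨V, g, v, ⟨(colimit.ι (D ⋙ EtCoh.push f) j).hom.app (op V) y, (hφ j V y).trans hy⟩, hv⟩⟩
    haveI : Epi φ := (Sheaf.isLocallySurjective_iff_epi' (φ := φ)).1 inferInstance
    haveI : IsIso φ := isIso_of_mono_of_epi _
    haveI : IsIso ((colimit.isColimit (D ⋙ EtCoh.push f)).desc ((EtCoh.push f).mapCocone c)) := ‹IsIso φ›
    exact ⟨IsColimit.ofPointIso (t := (EtCoh.push f).mapCocone c) (colimit.isColimit (D ⋙ EtCoh.push f))⟩⟩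

/-- An additive functor preserving filtered colimits preserves coproducts. -/
theorem preservesColimitsOfShape_discrete {A : Type (u + 2)} [Category.{u + 1} A] [Preadditive A]
    [HasFiniteCoproducts A] {B : Type (u + 2)} [Category.{u + 1} B] [Preadditive B] (G : A ⥤ B) [G.Additive]
    (ι : Type (u + 1)) [HasColimitsOfShape (Finset (Discrete ι)) A] [HasColimitsOfShape (Discrete ι) A]
    [PreservesColimitsOfShape (Finset (Discrete ι)) G] : PreservesColimitsOfShape (Discrete ι) G := by
  refine ⟨fun {K} => ?_⟩
  suffices h : PreservesColimit (Discrete.functor fun i => K.obj ⟨i⟩) G by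
    haveI : PreservesColimit (Discrete.functor (K.obj ∘ Discrete.mk)) G := h
    exact preservesColimit_of_iso_diagram G (Discrete.natIsoFunctor (F := K)).symm
  let c : ι → A := fun i => K.obj ⟨i⟩
  haveI : PreservesFiniteCoproducts G := inferInstance
  let hS : ∀ T : Finset (Discrete ι), IsColimit (Cofan.mk (G.obj (∐ fun x : T => c x.1.as))
      fun x => G.map (Sigma.ι (fun x : T => c x.1.as) x)) := fun T =>
    isColimitOfHasCoproductOfPreservesColimit G (fun x : T => c x.1.as)
  let hF := isColimitOfPreserves G (isColimitFiniteSubproductsCocone c)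
  let dS : ∀ (s : Cofan fun i => G.obj (c i)) (T : Finset (Discrete ι)),
      G.obj (∐ fun x : T => c x.1.as) ⟶ s.pt := fun s T =>
    Cofan.IsColimit.desc (hS T) fun x => s.inj x.1.as
  have hd : ∀ (s : Cofan fun i => G.obj (c i)) (T : Finset (Discrete ι)) (x : T),
      G.map (Sigma.ι (fun x : T => c x.1.as) x) ≫ dS s T = s.inj x.1.as := fun s T x =>
    Cofan.IsColimit.fac (hS T) _ x
  let Tc : ∀ s : Cofan fun i => G.obj (c i), Cocone (liftToFinsetObj (Discrete.functor c) ⋙ G) := fun s =>
    { pt := s.pt
      ι :=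
        { app := dS s
          naturality := fun T T' g => by
            refine Cofan.IsColimit.hom_ext (hS T) _ _ fun x => ?_
            change G.map (Sigma.ι (fun x : T => c x.1.as) x) ≫
              G.map ((liftToFinsetObj (Discrete.functor c)).map g) ≫ dS s T' =
              G.map (Sigma.ι (fun x : T => c x.1.as) x) ≫ dS s T ≫ 𝟙 _
            rw [← Category.assoc, ← G.map_comp, Category.comp_id, hd]
            simp only [liftToFinsetObj_map, Discrete.functor_obj_eq_as, Sigma.ι_desc]
            exact hd s T' _ } }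
  refine preservesColimit_of_preserves_colimit_cocone (coproductIsCoproduct c) ((isColimitMapCoconeCofanMkEquiv G _ _).2 ?_)
  refine mkCofanColimit _ (fun s => hF.desc (Tc s)) (fun s i => ?_) fun s m hm => ?_
  · simp only [cofan_mk_inj]
    have hf := hF.fac (Tc s) {Discrete.mk i}
    rw [← hd s {Discrete.mk i} ⟨Discrete.mk i, Finset.mem_singleton_self _⟩]
    change _ = _ ≫ (Tc s).ι.app {Discrete.mk i}
    rw [← hf, ← Category.assoc, Functor.mapCocone_ι_app, ← G.map_comp]
    simp [finiteSubcoproductsCocone]
  · refine hF.hom_ext fun T => ?_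
    rw [hF.fac]
    refine Cofan.IsColimit.hom_ext (hS T) _ _ fun x => ?_
    change G.map (Sigma.ι (fun x : T => c x.1.as) x) ≫ G.map ((finiteSubcoproductsCocone c).ι.app T) ≫ m =
      G.map (Sigma.ι (fun x : T => c x.1.as) x) ≫ dS s T
    rw [← Category.assoc, ← G.map_comp, hd]
    simp only [finiteSubcoproductsCocone, Sigma.ι_desc]
    exact hm x.1.as

theorem preservesCoproducts_push (ι : Type (u + 1)) : PreservesColimitsOfShape (Discrete ι) (EtCoh.push f) :=
  haveI := preservesColimitsOfShape_push f (Λ := Finset (Discrete ι))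
  preservesColimitsOfShape_discrete (EtCoh.push f) ι

end Groth.L10.EtCoprod
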