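import Groth.Agent.L10.EtCoprod.Dim
import Groth.Agent.L10.EtCoprod.Push
import Groth.Agent.L17.AcyclicMap

/-! # Direct image of acyclic complexes of acyclic sheaves under finite dimension -/

universe u

open CategoryTheory CategoryTheory.Limits AlgebraicGeometry Opposite CategoryTheory.Abelian CochainComplex

set_option backward.defeqAttrib.useBackward true
set_option backward.isDefEq.respectTransparency false
set_option backward.isDefEq.respectTransparency.types false
set_option linter.style.haveILetI false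

namespace Groth.L10.EtCoprod

open Groth.L27 Groth.L27.Colim

variable {X S : Scheme.{u}}

theorem epi_toCycles {A : Type (u + 2)} [Category.{u + 1} A] [Abelian A] (K : CochainComplex A ℤ) (hK : K.Acyclic)
    (i : ℤ) : Epi (K.toCycles i (i + 1)) := by
  have hz : K.homologyπ (i + 1) = 0 :=
    ((K.exactAt_iff_isZero_homology (i + 1)).1 (hK (i + 1))).eq_of_tgt _ _
  exact (ShortComplex.exact_of_g_is_cokernel (ShortComplex.mk _ _
    (K.toCycles_comp_homologyπ i (i + 1)))
    (K.homologyIsCokernel i (i + 1) (by simp))).epi_f hz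

/-- Cocycles on a qcqs object of finite dimension are coboundaries. -/
theorem exists_preimage_d (W : X.Etale) (hW : Qcqs W) {d : ℕ}
    (hd : ∀ (F : EtCoh.Ab W.left) (q : ℕ), d < q → Subsingleton (EtCoh.H W.left F q))
    (K : CochainComplex (EtCoh.Ab X) ℤ) (hK : K.Acyclic) (hA : ∀ p, Acy X (K.X p)) (i : ℤ)
    (φ : freeSh W ⟶ K.X (i + 1)) (hφ : φ ≫ K.d (i + 1) (i + 1 + 1) = 0) :
    ∃ ψ : freeSh W ⟶ K.X i, ψ ≫ K.d i (i + 1) = φ := by
  have hT : ∀ i : ℤ, (ShortComplex.mk (K.iCycles i) (K.toCycles i (i + 1))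
      (by rw [← cancel_mono (K.iCycles (i + 1))]; simp)).ShortExact := fun i => by
    refine { exact := ?_, mono_f := inferInstance, epi_g := epi_toCycles K hK i }
    rw [ShortComplex.exact_iff_exact_up_to_refinements]
    intro P x hx
    change x ≫ K.toCycles i (i + 1) = 0 at hx
    refine ⟨P, 𝟙 P, inferInstance, K.liftCycles x (i + 1) (by simp) ?_, ?_⟩
    · rw [← K.toCycles_i i (i + 1), ← Category.assoc]
      exact (congrArg (fun e => e ≫ K.iCycles (i + 1)) hx).trans zero_comp
    · simp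
  have hz : ∀ (k j : ℕ) (i : ℤ), d ≤ j + k → Subsingleton (Ext (freeSh W) (K.cycles i) (j + 1)) := by
    intro k
    induction k with
    | zero => exact fun j i hj => subsingleton_ext_of_bound W hd _ j (by omega)
    | succ k ih =>
      intro j i hj
      obtain ⟨i, rfl⟩ : ∃ i', i = i' + 1 := ⟨i - 1, by omega⟩
      refine subsingleton_of_forall_eq 0 fun x => ?_
      obtain ⟨y, hy⟩ := Ext.covariant_sequence_exact₃ (freeSh W) (hT i) x rfl
        (@Subsingleton.elim _ (ih (j + 1) i (by omega)) _ _)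
      rw [← hy, @Subsingleton.elim _ (hA i W hW j) y 0, Ext.zero_comp]
  let y := K.liftCycles φ (i + 1 + 1) (by simp) hφ
  obtain ⟨z', hz'⟩ := Ext.covariant_sequence_exact₃ (freeSh W) (hT i) (Ext.mk₀ y) (zero_add 1)
    (@Subsingleton.elim _ (hz d 0 i (by omega)) _ _)
  obtain ⟨z, rfl⟩ := (Ext.mk₀_bijective (freeSh W) (K.X i)).2 z'
  have hzy : z ≫ K.toCycles i (i + 1) = y :=
    (Ext.mk₀_bijective _ _).1 ((Ext.mk₀_comp_mk₀ _ _).symm.trans hz')
  exact ⟨z, by rw [← K.toCycles_i i (i + 1), ← Category.assoc, hzy, K.liftCycles_i]⟩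

variable (f : X ⟶ S) [QuasiCompact f] [QuasiSeparated f]
  (hX : ∀ U : X.Etale, CompactSpace ↥(U.left) → QuasiSeparatedSpace ↥(U.left) →
      ∃ d : ℕ, ∀ (F : EtCoh.Ab U.left) (q : ℕ), d < q → Subsingleton (EtCoh.H U.left F q))

include hX in
/-- Direct images of acyclic complexes of acyclic sheaves are acyclic. -/
theorem acyclic_push (K : CochainComplex (EtCoh.Ab X) ℤ) (hK : K.Acyclic) (hA : ∀ p, Acy X (K.X p)) :
    (((EtCoh.push f).mapHomologicalComplex (.up ℤ)).obj K).Acyclic := by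
  let P := ((EtCoh.push f).mapHomologicalComplex (.up ℤ)).obj K
  intro n
  obtain ⟨i, rfl⟩ : ∃ i, n = i + 1 := ⟨n - 1, by omega⟩
  have hloc : Sheaf.IsLocallySurjective (P.toCycles i (i + 1)) := ⟨fun {U} c => (EtSite.mem_topology_iff _).2 fun x => by
    obtain ⟨V, g, v, hv, hq⟩ := exists_qcqs_nhd f U x
    refine ⟨V, g, v, ?_, hv⟩
    obtain ⟨d, hd⟩ := hX _ hq.1 hq.2
    let c' := (P.cycles (i + 1)).obj.map g.op c
    let z : (K.X (i + 1)).obj.obj (op ((EtCoh.bc f).obj V)) := (P.iCycles (i + 1)).hom.app (op V) c'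
    obtain ⟨ψ, hψ⟩ := exists_preimage_d _ hq hd K hK hA i ((homEquiv _ _).symm z) (by
      apply (homEquiv _ _).injective
      rw [homEquiv_comp, AddEquiv.apply_symm_apply, map_zero]
      exact congr($(P.iCycles_d (i + 1) (i + 1 + 1)).hom.app (op V) c'))
    refine ⟨homEquiv ((EtCoh.bc f).obj V) (K.X i) ψ, ?_⟩
    have hmono : Mono ((sheafToPresheaf S.smallEtaleTopology AddCommGrpCat.{u + 1}).map (P.iCycles (i + 1))) :=
      inferInstance
    apply (AddCommGrpCat.mono_iff_injective _).1 ((NatTrans.mono_iff_mono_app _).1 hmono (op V))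
    refine (congr($(P.toCycles_i i (i + 1)).hom.app (op V) (homEquiv ((EtCoh.bc f).obj V) (K.X i) ψ))).trans ?_
    show (K.d i (i + 1)).hom.app (op ((EtCoh.bc f).obj V)) (homEquiv ((EtCoh.bc f).obj V) (K.X i) ψ) = z
    rw [← homEquiv_comp, hψ, AddEquiv.apply_symm_apply]⟩
  haveI : Epi (P.toCycles i (i + 1)) := (Sheaf.isLocallySurjective_iff_epi' (φ := P.toCycles i (i + 1))).1 hloc
  rw [HomologicalComplex.exactAt_iff_isZero_homology]
  exact IsZero.of_epi_eq_zero (P.homologyπ (i + 1))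
    (by rw [← cancel_epi (P.toCycles i (i + 1)), P.toCycles_comp_homologyπ, comp_zero])

include hX in
/-- Direct image preserves quasi-isomorphisms between complexes of acyclic sheaves. -/
theorem quasiIso_push {K L : CochainComplex (EtCoh.Ab X) ℤ} (φ : K ⟶ L) [QuasiIso φ]
    (hA : ∀ n, Acy X (K.X n)) (hB : ∀ n, Acy X (L.X n)) :
    QuasiIso (((EtCoh.push f).mapHomologicalComplex (.up ℤ)).map φ) := by
  have hK : (mappingCone φ).Acyclic := (L17.GrothSS.quasiIso_iff_cone φ).1 inferInstance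
  have hC : ∀ n, Acy X ((mappingCone φ).X n) := fun n => by
    refine (Acy X).prop_of_iso (HomologicalComplex.homotopyCofiber.XIsoBiprod φ n (n + 1) rfl).symm ?_
    refine fun W hW q => subsingleton_of_forall_eq 0 fun x => ?_
    rw [← Ext.comp_mk₀_id x, ← biprod.total, Ext.mk₀_add, Ext.comp_add,
      ← Ext.mk₀_comp_mk₀, ← Ext.mk₀_comp_mk₀, ← Ext.comp_assoc_of_third_deg_zero, ← Ext.comp_assoc_of_third_deg_zero,
      @Subsingleton.elim _ (hA (n + 1) W hW q) (x.comp (Ext.mk₀ biprod.fst) (add_zero _)) 0,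
      @Subsingleton.elim _ (hB n W hW q) (x.comp (Ext.mk₀ biprod.snd) (add_zero _)) 0, Ext.zero_comp, Ext.zero_comp,
      add_zero]
  rw [L17.GrothSS.quasiIso_iff_cone]
  exact fun n => (acyclic_push f hX _ hK hC n).of_iso (mappingCone.mapHomologicalComplexIso φ (EtCoh.push f))

end Groth.L10.EtCoprod
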