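import Groth.Agent.L10.BigColim.ExtRep
import Groth.Agent.L27.Colim.FreeSheaf
import Groth.Agent.L27.Colim.Etale
import Groth.Agent.L27.ExtZero.Exact
import Groth.Agent.L27.ExtZero.Cont
import Groth.Agent.L27.ExtZero.Restr
import Mathlib.CategoryTheory.Limits.Constructions.Filtered
import Mathlib.Algebra.Homology.DerivedCategory.Ext.EnoughInjectives

/-! # Ext out of free etale sheaves: finite dimension and coproducts -/

universe u

open CategoryTheory CategoryTheory.Limits AlgebraicGeometry Opposite CategoryTheory.Abelian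

set_option backward.defeqAttrib.useBackward true
set_option backward.isDefEq.respectTransparency false
set_option backward.isDefEq.respectTransparency.types false
set_option linter.style.haveILetI false

namespace Groth.L10.EtCoprod

open Groth.L27 Groth.L27.Colim

variable {X : Scheme.{u}}

/-- Vanishing of Ext out of `Z` follows from vanishing out of `Z'` after an exact functor preserving injectives
which identifies the groups of morphisms. -/
theorem subsingleton_ext_transfer {A B : Type (u + 2)} [Category.{u + 1} A] [Category.{u + 1} B] [Abelian A]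
    [Abelian B] [HasExt.{u + 1} A] [HasExt.{u + 1} B] [EnoughInjectives A] (G : A ⥤ B) [G.Additive]
    [PreservesFiniteLimits G] [PreservesFiniteColimits G] (hG : ∀ I : A, Injective I → Injective (G.obj I))
    {Z : A} {Z' : B} (e : ∀ F : A, (Z ⟶ F) ≃ (Z' ⟶ G.obj F))
    (he : ∀ {F F' : A} (φ : F ⟶ F') (g : Z ⟶ F), e F' (g ≫ φ) = e F g ≫ G.map φ) :
    ∀ (n : ℕ) (F : A), Subsingleton (Ext Z' (G.obj F) (n + 1)) → Subsingleton (Ext Z F (n + 1)) := by
  intro n
  induction n with
  | zero =>
    intro F h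
    let E := ShortComplex.mk (Injective.ι F) (cokernel.π _) (cokernel.condition _)
    have hE : E.ShortExact :=
      { exact := ShortComplex.exact_of_g_is_cokernel _ (cokernelIsCokernel _) }
    refine subsingleton_of_forall_eq 0 fun x => ?_
    obtain ⟨y, hy⟩ := Ext.covariant_sequence_exact₁ _ hE x (Ext.eq_zero_of_injective _) (zero_add 1)
    obtain ⟨φ, rfl⟩ := (Ext.mk₀_bijective Z E.X₃).2 y
    obtain ⟨ψ', hψ'⟩ := Ext.covariant_sequence_exact₃ Z' (hE.map_of_exact G) (Ext.mk₀ (e E.X₃ φ)) (zero_add 1)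
      (Subsingleton.elim (α := Ext Z' (G.obj F) 1) _ _)
    obtain ⟨ψ, rfl⟩ := (Ext.mk₀_bijective Z' (G.obj E.X₂)).2 ψ'
    obtain ⟨ψ₀, rfl⟩ := (e E.X₂).surjective ψ
    have : ψ₀ ≫ E.g = φ := (e E.X₃).injective (by
      refine (he E.g ψ₀).trans ((Ext.mk₀_bijective _ _).1 ?_)
      exact (Ext.mk₀_comp_mk₀ _ _).symm.trans hψ')
    rw [← hy, ← this, ← Ext.mk₀_comp_mk₀, Ext.comp_assoc_of_second_deg_zero, ShortComplex.ShortExact.comp_extClass,
      Ext.comp_zero]
  | succ n ih =>
    intro F h
    let E := ShortComplex.mk (Injective.ι F) (cokernel.π _) (cokernel.condition _)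
    have hE : E.ShortExact :=
      { exact := ShortComplex.exact_of_g_is_cokernel _ (cokernelIsCokernel _) }
    haveI : Injective ((E.map G).X₂) := hG _ (inferInstanceAs (Injective (Injective.under F)))
    haveI := ih E.X₃ (subsingleton_of_forall_eq 0 fun y => by
      obtain ⟨z, hz⟩ := Ext.covariant_sequence_exact₃ Z' (hE.map_of_exact G) y rfl
        (Subsingleton.elim (α := Ext Z' (G.obj F) (n + 1 + 1)) _ _)
      rw [← hz, Ext.eq_zero_of_injective z, Ext.zero_comp])
    refine subsingleton_of_forall_eq 0 fun x => ?_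
    obtain ⟨y, hy⟩ := Ext.covariant_sequence_exact₁ _ hE x (Ext.eq_zero_of_injective _) rfl
    rw [← hy, Subsingleton.elim y 0, Ext.zero_comp]

/-- A bound for the cohomology of `U` bounds Ext out of the free sheaf on `U`. -/
theorem subsingleton_ext_of_bound (U : X.Etale) {d : ℕ}
    (hd : ∀ (F : EtCoh.Ab U.left) (q : ℕ), d < q → Subsingleton (EtCoh.H U.left F q))
    (F : EtCoh.Ab X) (q : ℕ) (hq : d ≤ q) : Subsingleton (Ext (freeSh U) F (q + 1)) := by
  haveI : AlgebraicGeometry.Etale U.hom := U.prop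
  haveI : EtShriek.JCont U.hom := ExtZero.jCont U.hom
  let j := U.hom
  let G := EtShriek.restrAlong j
  haveI : PreservesLimitsOfSize.{0, 0} G := (EtShriek.extZeroAdj j).rightAdjoint_preservesLimits
  haveI : PreservesFiniteLimits G := PreservesLimitsOfSize.preservesFiniteLimits _
  haveI : PreservesColimitsOfSize.{0, 0} G := (ExtZero.restrAdj j).leftAdjoint_preservesColimits
  haveI : PreservesFiniteColimits G := PreservesColimitsOfSize.preservesFiniteColimits _
  let T₀ := EtCoh.top U.left
  let hT := EtCore.topIsTerminal U.left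
  let m : U ≅ (EtShriek.compEtale j).obj T₀ :=
    MorphismProperty.Over.isoMk (Iso.refl U.left) (by
      show 𝟙 _ ≫ (𝟙 U.left ≫ U.hom) = U.hom
      rw [Category.id_comp, Category.id_comp])
  refine subsingleton_ext_transfer G (fun I _ => ExtZero.injective_restrAlong j I)
    (fun F' => (homEquiv U F').toEquiv.trans ((F'.obj.mapIso m.symm.op).addCommGroupIsoToAddEquiv.toEquiv.trans
      ((Sheaf.H.equiv₀ (G.obj F') hT).symm.toEquiv.trans Ext.homEquiv₀))) (fun {F₁ F₂} φ g => ?_) q F
    (hd _ _ (by omega))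
  apply Ext.homEquiv₀.symm.injective
  dsimp only [Equiv.trans_apply]
  rw [Equiv.symm_apply_apply]
  refine Eq.trans ?_ ((Sheaf.H.map_apply (G.map φ) _).trans (Ext.mk₀_comp_mk₀ _ _))
  refine Eq.trans ?_ (congrArg (Sheaf.H.map (G.map φ) 0) (Ext.mk₀_homEquiv₀_apply _).symm)
  refine Eq.trans ?_ (Sheaf.H.equiv₀_symm_naturality hT (G.map φ) _).symm
  refine congrArg (Sheaf.H.equiv₀ (G.obj F₂) hT).symm ?_
  exact (congrArg (F₂.obj.map m.inv.op) (homEquiv_comp U φ g)).trans (NatTrans.naturality_apply φ.hom m.inv.op _).symm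

variable (X) in
/-- Sheaves without higher cohomology on quasi-compact quasi-separated objects. -/
def Acy : ObjectProperty (EtCoh.Ab X) := fun F =>
  ∀ (W : X.Etale), Qcqs W → ∀ n : ℕ, Subsingleton (Ext (freeSh W) F (n + 1))

instance : (Acy X).IsClosedUnderIsomorphisms :=
  ⟨fun {F G} e hF W hW n => haveI : Subsingleton ↑((extFunctorObj (freeSh W) (n + 1)).obj F) := hF W hW n
    ((extFunctorObj (freeSh W) (n + 1)).mapIso e).addCommGroupIsoToAddEquiv.symm.toEquiv.subsingleton⟩

theorem acy_injective (I : EtCoh.Ab X) [Injective I] : Acy X I := fun _ _ _ =>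
  subsingleton_of_forall_eq 0 fun x => Ext.eq_zero_of_injective x

theorem acy_finite {α : Type*} [Finite α] (c : α → EtCoh.Ab X) [HasCoproduct c] (hc : ∀ a, Acy X (c a)) :
    Acy X (∐ c) := fun W hW n => by
  let G := extFunctorObj (freeSh W) (n + 1)
  haveI : PreservesFiniteCoproducts G := inferInstance
  have h := IsColimit.isZero_pt (isColimitOfHasCoproductOfPreservesColimit G c)
    (Functor.isZero _ fun a => @AddCommGrpCat.isZero_of_subsingleton _ (hc a.as W hW n))
  exact AddCommGrpCat.subsingleton_of_isZero h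

/-- Coproducts of acyclic sheaves are acyclic. -/
theorem acy_coproduct {ι : Type (u + 1)} (c : ι → EtCoh.Ab X) (hc : ∀ a, Acy X (c a)) : Acy X (∐ c) :=
  fun W hW n => by
  haveI : HasExactColimitsOfShape (Finset (Discrete ι)) (EtCoh.Ab X) := inferInstance
  obtain ⟨h, -⟩ := BigColim.ExtRep.commutes good (rep W) hW (n + 1) _ _
    (CoproductsFromFiniteFiltered.isColimitFiniteSubproductsCocone c)
  refine subsingleton_of_forall_eq 0 fun x => ?_
  obtain ⟨T, y, rfl⟩ := h x
  haveI : Subsingleton (Ext (freeSh W) ((CoproductsFromFiniteFiltered.liftToFinsetObj (Discrete.functor c)).obj T) (n + 1)) :=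
    acy_finite (fun x : T => c x.1.as) (fun x => hc _) W hW n
  exact (congrArg _ (@Subsingleton.elim _ ‹_› y 0)).trans (map_zero _)

end Groth.L10.EtCoprod
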