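import Groth.Agent.L10.EtCoprod.Acyclic
import Groth.Agent.L10.HomotopyProd
import Groth.Agent.L10.KInjTransfer
import Groth.Agent.L10.KInjDerived
import Mathlib.Algebra.Homology.HomologicalComplexLimits
import Groth.Prelude.Def_EtBCD

/-! # Unbounded derived direct image preserves coproducts under finite dimension -/

universe u

open CategoryTheory CategoryTheory.Limits AlgebraicGeometry Opposite
attribute [local instance] HasDerivedCategory.standard

set_option backward.defeqAttrib.useBackward true
set_option backward.isDefEq.respectTransparency false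
set_option backward.isDefEq.respectTransparency.types false
set_option linter.style.haveILetI false

namespace Groth.L10.EtCoprod

variable {X S : Scheme.{u}} (f : X ⟶ S) [QuasiCompact f] [QuasiSeparated f] [DCoh.HasRpushEt X f]
  (hX : ∀ U : X.Etale, CompactSpace ↥(U.left) → QuasiSeparatedSpace ↥(U.left) →
      ∃ d : ℕ, ∀ (F : EtCoh.Ab U.left) (q : ℕ), d < q → Subsingleton (EtCoh.H U.left F q))

include hX in
theorem preservesCoproducts_RpushEt (ι : Type (u + 1)) :
    PreservesColimitsOfShape (Discrete ι) (DCoh.RpushEt X f) := by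
  refine ⟨fun {K} => ?_⟩
  suffices h : PreservesColimit (Discrete.functor fun i => K.obj ⟨i⟩) (DCoh.RpushEt X f) by
    haveI : PreservesColimit (Discrete.functor (K.obj ∘ Discrete.mk)) (DCoh.RpushEt X f) := h
    exact preservesColimit_of_iso_diagram _ (Discrete.natIsoFunctor (F := K)).symm
  let qX := HomotopyCategory.quotient (EtCoh.Ab X) (ComplexShape.up ℤ)
  let qS := HomotopyCategory.quotient (EtCoh.Ab S) (ComplexShape.up ℤ)
  let G := (EtCoh.push f).mapHomologicalComplex (ComplexShape.up ℤ)
  let RF := DCoh.RpushEt X f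
  let α := (DCoh.pushEtKh X f).totalRightDerivedUnit DerivedCategory.Qh
    (HomotopyCategory.quasiIso (EtCoh.Ab X) (ComplexShape.up ℤ))
  choose I s hI hs hinj using fun i => KInjTransfer.exists_resolution.{u + 1}
    (DerivedCategory.Qh.objPreimage (K.obj ⟨i⟩)).as
  haveI := hI
  haveI := hs
  let e : ∀ i, DerivedCategory.Qh.obj (qX.obj (I i)) ≅ K.obj ⟨i⟩ := fun i =>
    haveI : IsIso (DerivedCategory.Qh.map (qX.map (s i))) :=
      Localization.inverts DerivedCategory.Qh (HomotopyCategory.quasiIso _ (ComplexShape.up ℤ)) _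
        ((HomotopyCategory.quotient_map_mem_quasiIso_iff (s i)).2 ((HomologicalComplex.mem_quasiIso_iff _).2 (hs i)))
    (asIso (DerivedCategory.Qh.map (qX.map (s i)))).symm ≪≫ DerivedCategory.Qh.objObjPreimageIso (K.obj ⟨i⟩)
  -- the cofan in `D(X)`
  let c : Cofan fun i => K.obj ⟨i⟩ :=
    Cofan.mk (DerivedCategory.Qh.obj (qX.obj (∐ I))) fun i => (e i).inv ≫ DerivedCategory.Qh.map (qX.map (Sigma.ι I i))
  have hb := fun Y => DerivedProd.hom_from_coproduct_bijective I Y
  have hc : IsColimit c := Cofan.IsColimit.mk _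
    (fun t => ((hb t.pt).surjective fun i => (e i).hom ≫ t.inj i).choose)
    (fun t i => by
      have := congrFun ((hb t.pt).surjective fun i => (e i).hom ≫ t.inj i).choose_spec i
      simp only [c, cofan_mk_inj, Category.assoc]
      exact (congrArg ((e i).inv ≫ ·) this).trans ((e i).inv_hom_id_assoc _))
    (fun t m hm => (hb t.pt).injective (funext fun i => by
      refine Eq.trans ?_ (congrFun ((hb t.pt).surjective fun i => (e i).hom ≫ t.inj i).choose_spec i).symm
      rw [← hm i]
      simp only [c, cofan_mk_inj, Category.assoc, Iso.hom_inv_id_assoc]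
      rfl))
  -- the unit is invertible at the coproduct
  obtain ⟨J, t, hJ, ht, hJinj⟩ := KInjTransfer.exists_resolution.{u + 1} (∐ I)
  refine preservesColimit_of_preserves_colimit_cocone hc ((isColimitMapCoconeCofanMkEquiv _ _ _).2 ?_)
  have hA : ∀ n, Acy X ((∐ I).X n) := fun n =>
    (Acy X).prop_of_iso (PreservesCoproduct.iso (HomologicalComplex.eval (EtCoh.Ab X) (ComplexShape.up ℤ) n) I).symm
      (acy_coproduct (fun i => (I i).X n) fun i => haveI := hinj i n; acy_injective _)
  haveI : QuasiIso (G.map t) := quasiIso_push f hX t hA fun n => haveI := hJinj n; acy_injective _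
  haveI hα : IsIso (α.app (qX.obj (∐ I))) := by
    haveI : IsIso (α.app (qX.obj J)) := KInjDerived.isIso_app_quotient α J
    haveI : IsIso (RF.map (DerivedCategory.Qh.map (qX.map t))) := by
      haveI : IsIso (DerivedCategory.Qh.map (qX.map t)) :=
        Localization.inverts DerivedCategory.Qh (HomotopyCategory.quasiIso _ (ComplexShape.up ℤ)) _
          ((HomotopyCategory.quotient_map_mem_quasiIso_iff t).2 ((HomologicalComplex.mem_quasiIso_iff _).2 ht))
      infer_instance
    haveI : IsIso ((DCoh.pushEtKh X f).map (qX.map t)) :=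
      Localization.inverts DerivedCategory.Qh (HomotopyCategory.quasiIso _ (ComplexShape.up ℤ)) (qS.map (G.map t))
        ((HomotopyCategory.quotient_map_mem_quasiIso_iff (G.map t)).2 ((HomologicalComplex.mem_quasiIso_iff _).2 ‹_›))
    haveI : IsIso (α.app (qX.obj (∐ I)) ≫ RF.map (DerivedCategory.Qh.map (qX.map t))) := by
      have h := α.naturality (qX.map t)
      exact (congrArg IsIso h).mp (IsIso.comp_isIso' ‹IsIso ((DCoh.pushEtKh X f).map (qX.map t))› ‹IsIso (α.app (qX.obj J))›)
    exact IsIso.of_isIso_comp_right _ (RF.map (DerivedCategory.Qh.map (qX.map t)))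
  haveI : ∀ i, IsIso (α.app (qX.obj (I i))) := fun i => KInjDerived.isIso_app_quotient α (I i)
  -- direct image of the coproduct of complexes
  haveI := preservesCoproducts_push f ι
  haveI : ∀ n, PreservesColimit (Discrete.functor I)
      (G ⋙ HomologicalComplex.eval (EtCoh.Ab S) (ComplexShape.up ℤ) n) := fun n =>
    inferInstanceAs (PreservesColimit (Discrete.functor I)
      (HomologicalComplex.eval (EtCoh.Ab X) (ComplexShape.up ℤ) n ⋙ EtCoh.push f))
  have hG : IsColimit (Cofan.mk (G.obj (∐ I)) fun i => G.map (Sigma.ι I i)) :=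
    isColimitMapCoconeCofanMkEquiv G _ _ (HomologicalComplex.isColimitOfEval _ _ fun n =>
      isColimitOfPreserves (G ⋙ HomologicalComplex.eval (EtCoh.Ab S) (ComplexShape.up ℤ) n) (coproductIsCoproduct I))
  let θ : (∐ fun i => G.obj (I i)) ≅ G.obj (∐ I) := (coproductIsCoproduct _).coconePointUniqueUpToIso hG
  have hθ : ∀ i, Sigma.ι (fun i => G.obj (I i)) i ≫ θ.hom = G.map (Sigma.ι I i) := fun i =>
    (coproductIsCoproduct _).comp_coconePointUniqueUpToIso_hom hG ⟨i⟩
  have hbS := fun Y => DerivedProd.hom_from_coproduct_bijective (fun i => G.obj (I i)) Y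
  let a : DerivedCategory.Qh.obj (qS.obj (∐ fun i => G.obj (I i))) ≅ RF.obj c.pt :=
    (DerivedCategory.Qh.mapIso (qS.mapIso θ)) ≪≫ asIso (α.app (qX.obj (∐ I)))
  let b : ∀ i, DerivedCategory.Qh.obj (qS.obj (G.obj (I i))) ≅ RF.obj (K.obj ⟨i⟩) := fun i =>
    asIso (α.app (qX.obj (I i))) ≪≫ RF.mapIso (e i)
  have key : ∀ i, (b i).hom ≫ RF.map (c.inj i) =
      DerivedCategory.Qh.map (qS.map (Sigma.ι (fun i => G.obj (I i)) i)) ≫ a.hom := fun i => by
    simp only [a, b, c, Iso.trans_hom, asIso_hom, Functor.mapIso_hom, cofan_mk_inj, Category.assoc, ← RF.map_comp,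
      Iso.hom_inv_id_assoc]
    rw [← Category.assoc, ← Functor.map_comp, ← Functor.map_comp, hθ i]
    exact (α.naturality (qX.map (Sigma.ι I i))).symm
  exact Cofan.IsColimit.mk _
    (fun t => a.inv ≫ ((hbS t.pt).surjective fun i => (b i).hom ≫ t.inj i).choose)
    (fun t i => by
      have := congrFun ((hbS t.pt).surjective fun i => (b i).hom ≫ t.inj i).choose_spec i
      simp only [cofan_mk_inj]
      rw [← cancel_epi (b i).hom]
      refine ((Category.assoc _ _ _).symm.trans (congrArg (· ≫ (a.inv ≫ _)) (key i))).trans ?_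
      exact (Category.assoc _ _ _).trans ((congrArg (_ ≫ ·) (a.hom_inv_id_assoc _)).trans this))
    (fun t m hm => by
      rw [← cancel_epi a.hom, Iso.hom_inv_id_assoc]
      refine (hbS t.pt).injective (funext fun i => ?_)
      refine Eq.trans ?_ (congrFun ((hbS t.pt).surjective fun i => (b i).hom ≫ t.inj i).choose_spec i).symm
      rw [← hm i, cofan_mk_inj]
      exact (Category.assoc _ _ _).symm.trans ((congrArg (· ≫ m) (key i).symm).trans (Category.assoc _ _ _)))

end Groth.L10.EtCoprod
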